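import Mathlib.RingTheory.Noetherian.Basic
import Mathlib.RingTheory.Unramified.LocalRing
import Groth.Agent.UnramA.MonoEndo

/-!
# Unramified local homomorphisms between isomorphic Noetherian local rings

If `φ : R → S` is a local homomorphism of Noetherian local rings with `m_R S = m_S` and
`R → S / m_S` surjective, and `R` and `S` are (abstractly) isomorphic as rings, then `φ` is flat.
-/

set_option autoImplicit false

namespace Groth.Agent.Sga3.H792.EndoFlat

open IsLocalRing

/-- A surjective endomorphism of a Noetherian ring is injective. -/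
theorem injective_of_surjective_ringHom {R : Type*} [CommRing R] [IsNoetherianRing R]
    (f : R →+* R) (hf : Function.Surjective f) : Function.Injective f := by
  -- the increasing sequence of kernels of the iterates stabilises
  let K : ℕ →o Ideal R :=
    { toFun := fun n => RingHom.ker (f ^ n)
      monotone' := by
        refine monotone_nat_of_le_succ fun n x hx => ?_
        rw [RingHom.mem_ker] at hx ⊢
        rw [pow_succ', RingHom.mul_def, RingHom.comp_apply, hx, map_zero] }
  obtain ⟨n, hn⟩ := monotone_stabilizes_iff_noetherian.mpr ‹IsNoetherianRing R› K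
  rw [injective_iff_map_eq_zero]
  intro x hx
  have hsurj : ∀ n : ℕ, Function.Surjective (f ^ n : R →+* R) := by
    intro n
    induction n with
    | zero => exact fun y => ⟨y, rfl⟩
    | succ n ih =>
      rw [pow_succ', RingHom.mul_def, RingHom.coe_comp]
      exact hf.comp ih
  obtain ⟨y, rfl⟩ := hsurj n x
  have h1 : y ∈ K (n + 1) := by
    change y ∈ RingHom.ker (f ^ (n + 1))
    rw [RingHom.mem_ker, pow_succ', RingHom.mul_def, RingHom.comp_apply]
    exact hx
  rw [← hn (n + 1) (Nat.le_succ n)] at h1
  exact h1

variable {R S : Type*} [CommRing R] [CommRing S] [IsNoetherianRing R] [IsNoetherianRing S]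
  [IsLocalRing R] [IsLocalRing S] [Algebra R S]

omit [IsNoetherianRing R] [IsNoetherianRing S] in
/-- surjectivity modulo all powers -/
theorem exists_sub_mem_pow (hm : (maximalIdeal R).map (algebraMap R S) = maximalIdeal S)
    (hs : ∀ s : S, ∃ r : R, s - algebraMap R S r ∈ maximalIdeal S) (k : ℕ) (s : S) :
    ∃ r : R, s - algebraMap R S r ∈ maximalIdeal S ^ k := by
  induction k generalizing s with
  | zero => exact ⟨0, by simp⟩
  | succ k ih =>
    obtain ⟨r, hr⟩ := ih s
    -- elements of `m_S ^ k = m_R ^ k S`
    have key : ∀ t ∈ maximalIdeal S ^ k, ∃ r : R, t - algebraMap R S r ∈ maximalIdeal S ^ (k + 1) := by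
      intro t ht
      rw [← hm, ← Ideal.map_pow] at ht
      refine Submodule.span_induction (p := fun t _ => ∃ r : R,
        t - algebraMap R S r ∈ maximalIdeal S ^ (k + 1)) ?_ ?_ ?_ ?_ ht
      · rintro _ ⟨r, -, rfl⟩
        exact ⟨r, by simp⟩
      · exact ⟨0, by simp⟩
      · rintro x y - - ⟨a, ha⟩ ⟨b, hb⟩
        refine ⟨a + b, ?_⟩
        rw [map_add, show x + y - (algebraMap R S a + algebraMap R S b) =
          (x - algebraMap R S a) + (y - algebraMap R S b) by ring]
        exact add_mem ha hb
      · rintro a x hx ⟨b, hb⟩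
        obtain ⟨c, hc⟩ := hs a
        have hx' : x ∈ maximalIdeal S ^ k := by
          rw [← hm, ← Ideal.map_pow]
          exact hx
        refine ⟨c * b, ?_⟩
        rw [smul_eq_mul, map_mul, show a * x - algebraMap R S c * algebraMap R S b =
          (a - algebraMap R S c) * x + algebraMap R S c * (x - algebraMap R S b) by ring]
        refine add_mem ?_ (Ideal.mul_mem_left _ _ hb)
        rw [pow_succ']
        exact Ideal.mul_mem_mul hc hx'
    obtain ⟨r', hr'⟩ := key _ hr
    refine ⟨r + r', ?_⟩
    rwa [map_add, ← sub_sub]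

/-- **Flatness criterion**: a local homomorphism `R → S` of Noetherian local rings with
`m_R S = m_S` and `R → S / m_S` surjective is flat as soon as `R` and `S` are abstractly
isomorphic rings. -/
theorem flat_of_ringEquiv [IsLocalHom (algebraMap R S)]
    (hm : (maximalIdeal R).map (algebraMap R S) = maximalIdeal S)
    (hs : ∀ s : S, ∃ r : R, s - algebraMap R S r ∈ maximalIdeal S) (e : S ≃+* R) :
    Module.Flat R S := by
  refine Groth.Agent.UnramA.MonoEndo.flat_of_forall_pow (exists_sub_mem_pow hm hs) ?_
  intro k r hr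
  have hmap : (maximalIdeal S ^ k).map (e : S →+* R) = maximalIdeal R ^ k := by
    rw [Ideal.map_pow]
    congr 1
    exact map_ringEquiv_maximalIdeal e
  have hmap' : maximalIdeal R ^ k = (maximalIdeal S ^ k).map (e : S →+* R) := hmap.symm
  let e' : S ⧸ (maximalIdeal S ^ k) ≃+* R ⧸ (maximalIdeal R ^ k) :=
    Ideal.quotientEquiv _ _ e hmap'
  have hle : maximalIdeal R ^ k ≤ (maximalIdeal S ^ k).comap (algebraMap R S) := by
    rw [← Ideal.map_le_iff_le_comap, Ideal.map_pow, hm]
  let φ : R ⧸ (maximalIdeal R ^ k) →+* S ⧸ (maximalIdeal S ^ k) :=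
    Ideal.quotientMap _ (algebraMap R S) hle
  have hφ : Function.Surjective φ := by
    intro y
    obtain ⟨s, rfl⟩ := Ideal.Quotient.mk_surjective y
    obtain ⟨r, hr⟩ := exists_sub_mem_pow hm hs k s
    refine ⟨Ideal.Quotient.mk _ r, ?_⟩
    rw [Ideal.quotientMap_mk, eq_comm, Ideal.Quotient.eq]
    exact hr
  have hinj : Function.Injective φ := by
    have h1 : Function.Injective (e'.toRingHom.comp φ) :=
      injective_of_surjective_ringHom _ (e'.surjective.comp hφ)
    exact Function.Injective.of_comp (f := e') h1
  rw [← Ideal.Quotient.eq_zero_iff_mem]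
  apply hinj
  rw [map_zero, Ideal.quotientMap_mk, Ideal.Quotient.eq_zero_iff_mem]
  exact hr

end Groth.Agent.Sga3.H792.EndoFlat
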