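import Groth.Agent.Grpsch.AbBC
import Groth.Agent.Sga3.H792.EndoFlat

/-!
# The `d`-th power map is étale at the unit section if `d` is invertible

* `flat_stalkMap_of_formallyUnramified`: an endomorphism of a scheme locally of finite type over a field
  `K` which fixes a rational point and is formally unramified there is flat there.
* `flat_stalkMap_zpow`: the `d`-th power map of a group scheme locally of finite type over a
  field `K` is flat at the unit point if `d` is invertible in `K`.
* `etale_zpow_comm`: for commutative group schemes it is étale everywhere.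
-/

set_option autoImplicit false

open CategoryTheory Limits MonoidalCategory CartesianMonoidalCategory MonObj AlgebraicGeometry

namespace Groth.Agent.Sga3.H792.PowFlat

open Groth.Agent.Grpsch
open AbRing AbTangent AbStalk AbEtale AbBC

universe u

variable {K : Type u} [Field K]

/-- An endomorphism of a scheme locally of finite type over a field which fixes a rational point and
is formally unramified there is flat there. -/
theorem flat_stalkMap_of_formallyUnramified {X : Over (Spec (.of K))} [LocallyOfFiniteType X.hom]
    (f : X ⟶ X) (x : 𝟙_ (Over (Spec (.of K))) ⟶ X) (hx : x ≫ f = x)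
    (h : (f.left.stalkMap (pt x)).hom.FormallyUnramified) :
    (f.left.stalkMap (pt x)).hom.Flat := by
  have hlft : LocallyOfFiniteType f.left := by
    have : LocallyOfFiniteType (f.left ≫ X.hom) := by rw [Over.w]; infer_instance
    exact locallyOfFiniteType_of_comp _ X.hom
  have hNoeth : IsLocallyNoetherian X.left := LocallyOfFiniteType.isLocallyNoetherian X.hom
  let O := X.left.presheaf.stalk (pt x)
  let O' := X.left.presheaf.stalk (f.left (pt x))
  let algO : Algebra K O := (kAlg X.hom (pt x)).hom.toAlgebra
  let algO' : Algebra K O' := (kAlg X.hom (f.left (pt x))).hom.toAlgebra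
  let algOO' : Algebra O' O := (f.left.stalkMap (pt x)).hom.toAlgebra
  have : IsScalarTower K O' O := .of_algebraMap_eq' (by
    have := kAlg_stalkMap f (pt x)
    exact congr(($this).hom).symm)
  have hess : (algebraMap O' O).EssFiniteType := LocallyOfFiniteType.stalkMap f.left (pt x)
  have : Algebra.EssFiniteType O' O := hess
  have : Algebra.FormallyUnramified O' O := h
  have hloc : IsLocalHom (algebraMap O' O) :=
    inferInstanceAs (IsLocalHom (f.left.stalkMap (pt x)).hom)
  let π : O →ₐ[K] K :=
    { (ev x).hom with commutes' := fun r ↦ congr(($(kAlg_ev x)).hom r) }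
  have hfx : f.left (pt x) = pt x := congr(($hx).left (IsLocalRing.closedPoint K))
  let e : O ≃+* O' :=
    (X.left.presheaf.stalkCongr (.of_eq hfx.symm)).commRingCatIsoToRingEquiv
  have : IsNoetherianRing O := inferInstanceAs (IsNoetherianRing (X.left.presheaf.stalk (pt x)))
  have : IsNoetherianRing O' :=
    inferInstanceAs (IsNoetherianRing (X.left.presheaf.stalk (f.left (pt x))))
  change Module.Flat O' O
  refine EndoFlat.flat_of_ringEquiv Algebra.FormallyUnramified.map_maximalIdeal (fun s => ?_) e
  refine ⟨algebraMap K O' (π s), ?_⟩
  rw [← IsScalarTower.algebraMap_apply]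
  rw [IsLocalRing.mem_maximalIdeal, mem_nonunits_iff]
  intro hu
  have h2 := hu.map π
  rw [map_sub, AlgHom.commutes, Algebra.algebraMap_self_apply, sub_self] at h2
  exact not_isUnit_zero h2

variable {A : Over (Spec (.of K))} [GrpObj A]

/-- The `d`-th power map of a group scheme locally of finite type over a field `K` is flat at
the unit point if `d` is invertible in `K`. -/
theorem flat_stalkMap_zpow [LocallyOfFiniteType A.hom] {d : ℤ} (hd : (d : K) ≠ 0) :
    ((𝟙 A ^ d).left.stalkMap (pt η[A])).hom.Flat := by
  refine flat_stalkMap_of_formallyUnramified (𝟙 A ^ d) η[A] ?_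
    (formallyUnramified_stalkMap_zpow hd)
  rw [GrpObj.comp_zpow, Category.comp_id, MonObj.one_eq_one, one_zpow]

/-- `[d]` is étale on a commutative group scheme locally of finite type over an algebraically
closed field in which `d` is invertible. -/
theorem etale_zpow_comm_of_isAlgClosed [IsAlgClosed K] [IsCommMonObj A]
    [LocallyOfFiniteType A.hom] {d : ℤ} (hd : (d : K) ≠ 0) :
    Etale (𝟙 A ^ d).left := by
  have : IsMonHom (𝟙 A ^ d) := isMonHom_zpow d
  have : IsLocallyNoetherian A.left := LocallyOfFiniteType.isLocallyNoetherian A.hom
  have : LocallyOfFinitePresentation (𝟙 A ^ d).left := by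
    have : LocallyOfFiniteType ((𝟙 A ^ d).left ≫ A.hom) := by rw [Over.w]; infer_instance
    rw [LocallyOfFinitePresentation.iff_locallyOfFiniteType]
    exact locallyOfFiniteType_of_comp _ A.hom
  have : JacobsonSpace A.left := LocallyOfFiniteType.jacobsonSpace A.hom
  rw [Etale.iff_flat_and_formallyUnramified]
  refine ⟨?_, ?_, inferInstance⟩
  · exact Groth.Agent.UnramA.MonoEndo.flat_of_closedPoints _
      (stalkMap_of_origin RingHom.Flat.respectsIso (𝟙 A ^ d) (flat_stalkMap_zpow hd))
  · exact formallyUnramified_of_stalkMap _
      (stalkMap_of_origin RingHom.FormallyUnramified.respectsIso (𝟙 A ^ d)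
        (formallyUnramified_stalkMap_zpow hd))

section

attribute [local instance] Functor.grpObjObj

/-- `[d]` is étale on a commutative group scheme locally of finite type over a field in which `d`
is invertible. -/
theorem etale_zpow_comm (A : Over (Spec (.of K))) [GrpObj A] [IsCommMonObj A]
    [LocallyOfFiniteType A.hom] {d : ℤ} (hd : (d : K) ≠ 0) : Etale (𝟙 A ^ d).left := by
  apply of_pullback_map (P := @Etale) (L := AlgebraicClosure K)
  rw [map_zpow_one]
  have : LocallyOfFiniteType ((Over.pullback (Spec.map (CommRingCat.ofHom
      (algebraMap K (AlgebraicClosure K))))).obj A).hom := by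
    dsimp; infer_instance
  have : IsCommMonObj ((Over.pullback (Spec.map (CommRingCat.ofHom
      (algebraMap K (AlgebraicClosure K))))).obj A) := by
    infer_instance
  have hd' : (d : AlgebraicClosure K) ≠ 0 := by
    rw [← map_intCast (algebraMap K (AlgebraicClosure K)), Ne, map_eq_zero]
    exact hd
  exact etale_zpow_comm_of_isAlgClosed hd'

end

end Groth.Agent.Sga3.H792.PowFlat
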